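import Groth.Agent.L28.Pair.Limit.UnitSys
import Groth.Agent.L28.Pair.Limit.Noeth
import Groth.Agent.L05.ModelFG
import Groth.Agent.L19.Limit.Pullback
import Groth.Agent.L19.Limit.Descend
import Groth.Agent.L02.ConsP.Models
import Groth.Agent.S3364

/-!
Relative semipurity by noetherian approximation.
-/

set_option autoImplicit false
set_option linter.style.haveILetI false
set_option linter.unusedSectionVars false
set_option backward.isDefEq.respectTransparency.types false

universe u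

open CategoryTheory CategoryTheory.Limits AlgebraicGeometry Opposite TopologicalSpace

noncomputable section

namespace Groth.L28.Pair.Limit

open Groth.L27.LimCoh Groth.L27.LimBC Groth.L19.Limit

section Nat

set_option backward.defeqAttrib.useBackward true
set_option backward.isDefEq.respectTransparency false

variable {I : Type u} [SmallCategory I] {D : I ⥤ Scheme.{u}} {i : I} {U₀ T : Scheme.{u}} (j₀ : U₀ ⟶ T) (g : T ⟶ D.obj i)

/-- The morphisms on the stages. -/
def stageNat : bcDiagram D (j₀ ≫ g) ⟶ bcDiagram D g where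
  app := stageHom j₀ g
  naturality a b φ := by
    refine pullback.hom_ext ?_ ?_ <;> simp [bcDiagram, stageHom]

/-- The projections of the stages. -/
def sndNat : bcDiagram D g ⟶ constD (Over i) T where
  app t := pullback.snd (D.map t.hom) g
  naturality a b φ := by simp [bcDiagram]

end Nat

/-- Relative semipurity for an affine smooth scheme over an affine base and a quasi-compact open. -/
theorem depthGE_affine {A : Type u} [CommRing A] {X : Scheme.{u}} [IsAffine X]
    (f : X ⟶ Spec (CommRingCat.of A)) [Smooth f] (N d : ℕ)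
    (hN : ∀ x, FlatMor.fibreDimAt f x = (N : WithBot ℕ∞)) (V : X.Opens) (hV : IsCompact (V : Set X))
    (hdim : ∀ x : X, x ∉ V → DimLE f (V : Set X)ᶜ d x) (ℓ : ℕ) (hℓ : ℓ.Prime) (hn : IsUnit (ℓ : Γ(X, ⊤))) :
    EtDepth.DepthGE V.ι (EtCoh.const X (ZMod ℓ)) (2 * (N - d)) := by
  rcases Nat.eq_zero_or_pos (N - d) with hc | hc
  · rw [hc]; exact fun p hp => absurd hp (Nat.not_lt_zero _)
  obtain ⟨m, hm⟩ : ∃ m, 2 * (N - d) = m + 2 := ⟨2 * (N - d) - 2, by omega⟩
  rw [hm, Groth.Agent.S3364.depth_iff]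
  haveI : QuasiCompact f := inferInstance
  haveI : QuasiSeparated f := inferInstance
  obtain ⟨A₀, hA₀, X₀, f₀, q₀, hf₀, hlfp, hqc, sq⟩ :=
    Groth.L05.ModelFG.exists_model A descends_smooth f (inferInstanceAs (Smooth f))
  let D := Groth.L05.ModelFG.specDiagram A
  let c : Cone D := Groth.L05.ModelFG.specCone A
  have hc₀ : IsLimit c := Groth.L05.ModelFG.isLimitSpecCone A
  let i₀ : (Groth.L05.ModelFG.FG A)ᵒᵖ := op ⟨A₀, hA₀⟩
  let f₀' : X₀ ⟶ D.obj i₀ := f₀
  haveI : QuasiCompact f₀' := hqc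
  have hsq : IsPullback q₀ f f₀' (c.π.app i₀) := sq
  haveI : ∀ (a b : Over i₀) (φ : a ⟶ b), IsAffineHom ((bcDiagram D f₀').map φ) := fun a b φ => inferInstance
  haveI : ∀ {a b : Over i₀} (φ : a ⟶ b), IsAffineHom ((bcDiagram D f₀').map φ) := fun φ => inferInstance
  obtain ⟨k, -, W, -, hW⟩ := exists_isCompact_preimage_eq (c := sqCone hsq) (isLimitSqCone hc₀ hsq)
    (Over.mk (𝟙 i₀)) V hV
  -- the stage where the open is defined
  let i : (Groth.L05.ModelFG.FG A)ᵒᵖ := k.left
  let X₁ : Scheme.{u} := (bcDiagram D f₀').obj k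
  let f₁ : X₁ ⟶ D.obj i := pullback.fst (D.map k.hom) f₀'
  haveI : Smooth f₁ := MorphismProperty.pullback_fst (P := @Smooth) _ _ hf₀
  haveI : QuasiCompact f₁ := MorphismProperty.pullback_fst (P := @QuasiCompact) _ _ inferInstance
  let q : X ⟶ X₁ := toStage (c := c) hsq k
  have hsq₁ : IsPullback q f f₁ (c.π.app i) := by
    refine IsPullback.of_right ?_ (toStage_fst (c := c) hsq k) (IsPullback.of_hasPullback (D.map k.hom) f₀').flip
    rw [toStage_snd]
    show IsPullback q₀ f f₀' (c.π.app k.left ≫ D.map k.hom)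
    exact (congrArg (IsPullback q₀ f f₀') (c.w k.hom)).mpr hsq
  have hnoeth : ∀ t, IsLocallyNoetherian (D.obj t) := fun t => by
    haveI : IsNoetherianRing t.unop.1 := _root_.L02.ConsP.isNoetherianRing_of_fg t.unop.2
    exact inferInstanceAs (IsLocallyNoetherian (Spec (CommRingCat.of t.unop.1)))
  haveI := hnoeth i
  haveI : IsLocallyNoetherian X₁ := LocallyOfFiniteType.isLocallyNoetherian f₁
  haveI : CompactSpace X₁ := QuasiCompact.compactSpace_of_compactSpace f₁
  haveI : IsNoetherian X₁ := ⟨⟩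
  -- the good open
  let E : Set X₁ := {x | x ∉ (W : Set X₁)ᶜ ∨ DimLE f₁ (W : Set X₁)ᶜ d x}
  let O : X₁.Opens := ⟨E, isOpen_dimLE f₁ _ W.2.isClosed_compl d⟩ ⊓ ⟨_, isOpen_fibreDimAt_eq f₁ N⟩ ⊓
    X₁.basicOpen (ℓ : Γ(X₁, ⊤))
  have hqO : Set.range q ⊆ (O : Set X₁) := by
    rintro _ ⟨x, rfl⟩
    refine ⟨⟨?_, ?_⟩, ?_⟩
    · by_cases hx : q x ∈ (W : Set X₁)ᶜ
      · refine Or.inr ((dimLE_of_isPullback f₁ hsq₁ _ W.2.isClosed_compl d x hx).1 ?_)
        have hW' : q ⁻¹' (W : Set X₁) = (V : Set X) := hW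
        rw [Set.preimage_compl]
        exact hW'.symm ▸ hdim x fun h => hx ((Set.ext_iff.1 hW' x).2 h)
      · exact Or.inl hx
    · show FlatMor.fibreDimAt f₁ (q x) = _
      rw [← Groth.L23.fibreDimAt_of_isPullback hsq₁ x, hN]
    · show x ∈ q ⁻¹ᵁ X₁.basicOpen (ℓ : Γ(X₁, ⊤))
      rw [Scheme.preimage_basicOpen_top, map_natCast, X.basicOpen_of_isUnit hn]
      trivial
  let fO : (O : Scheme.{u}) ⟶ D.obj i := O.ι ≫ f₁
  let qO : X ⟶ (O : Scheme.{u}) := IsOpenImmersion.lift O.ι q (by simpa using hqO)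
  have hqO' : qO ≫ O.ι = q := IsOpenImmersion.lift_fac _ _ _
  have hY : IsPullback qO f fO (c.π.app i) := by
    refine ⟨⟨by rw [reassoc_of% hqO']; exact hsq₁.w⟩, ⟨PullbackCone.IsLimit.mk _
      (fun s => hsq₁.lift (s.fst ≫ O.ι) s.snd (by rw [Category.assoc]; exact s.condition))
      (fun s => by rw [← cancel_mono O.ι, Category.assoc, hqO', IsPullback.lift_fst])
      (fun s => hsq₁.lift_snd _ _ _) fun s l h1 h2 => hsq₁.hom_ext
        (by rw [IsPullback.lift_fst, ← hqO', reassoc_of% h1])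
        (by rw [h2, IsPullback.lift_snd])⟩⟩
  have hOW : qO ⁻¹ᵁ O.ι ⁻¹ᵁ W = V := by
    rw [← Scheme.Hom.comp_preimage, hqO']
    exact TopologicalSpace.Opens.ext hW
  let j₀ := (O.ι ⁻¹ᵁ W).ι
  let qU := (V.ι ≫ qO)
  have hX : IsPullback (IsOpenImmersion.lift j₀ (V.ι ≫ qO) (by
      rintro _ ⟨z, rfl⟩
      rw [Scheme.Opens.range_ι]
      have : (z.1 : X) ∈ qO ⁻¹ᵁ O.ι ⁻¹ᵁ W := by rw [hOW]; exact z.2
      exact this)) V.ι j₀ qO :=
    IsOpenImmersion.isPullback _ _ _ _ (IsOpenImmersion.lift_fac _ _ _).symm (by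
      rw [Scheme.Opens.opensRange_ι, Scheme.Opens.opensRange_ι]; exact hOW)
  let DX := bcDiagram D fO
  let DU := bcDiagram D (j₀ ≫ fO)
  let α : DU ⟶ DX := stageNat j₀ fO
  let cX : Cone DX := sqCone (c := c) hY
  let cU : Cone DU := sqCone (c := c) (hX.paste_vert hY)
  have hlX : IsLimit cX := isLimitSqCone hc₀ hY
  have hlU : IsLimit cU := isLimitSqCone hc₀ (hX.paste_vert hY)
  -- the instances
  haveI : CompactSpace ↥(O : Scheme.{u}) := isCompact_iff_compactSpace.mp (NoetherianSpace.isCompact _)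
  haveI : QuasiCompact fO := inferInstance
  haveI : QuasiCompact j₀ := inferInstance
  haveI : QuasiSeparated fO := inferInstance
  haveI : ∀ t, CompactSpace (DX.obj t) := fun t =>
    haveI : CompactSpace (D.obj t.left) := inferInstanceAs (CompactSpace (Spec _))
    @QuasiCompact.compactSpace_of_compactSpace _ _ (pullback.fst (D.map t.hom) fO)
      (MorphismProperty.pullback_fst (P := @QuasiCompact) _ _ inferInstance) this
  haveI : ∀ t, QuasiSeparatedSpace (DX.obj t) := fun t =>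
    haveI : QuasiSeparatedSpace (D.obj t.left) := inferInstanceAs (QuasiSeparatedSpace (Spec _))
    @quasiSeparatedSpace_of_quasiSeparated _ _ (pullback.fst (D.map t.hom) fO) this
      (MorphismProperty.pullback_fst (P := @QuasiSeparated) _ _ inferInstance)
  haveI : ∀ t, CompactSpace (DU.obj t) := fun t =>
    haveI : CompactSpace (D.obj t.left) := inferInstanceAs (CompactSpace (Spec _))
    @QuasiCompact.compactSpace_of_compactSpace _ _ (pullback.fst (D.map t.hom) (j₀ ≫ fO))
      (MorphismProperty.pullback_fst (P := @QuasiCompact) _ _ inferInstance) this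
  haveI : ∀ t, QuasiSeparatedSpace (DU.obj t) := fun t =>
    haveI : QuasiSeparatedSpace (D.obj t.left) := inferInstanceAs (QuasiSeparatedSpace (Spec _))
    @quasiSeparatedSpace_of_quasiSeparated _ _ (pullback.fst (D.map t.hom) (j₀ ≫ fO)) this
      (MorphismProperty.pullback_fst (P := @QuasiSeparated) _ _ inferInstance)
  haveI : ∀ (a b : Over i) (φ : a ⟶ b), IsAffineHom (DX.map φ) := fun a b φ => inferInstance
  haveI : ∀ (a b : Over i) (φ : a ⟶ b), IsAffineHom (DU.map φ) := fun a b φ => inferInstance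
  haveI hopen : ∀ t, IsOpenImmersion (α.app t) := fun t =>
    MorphismProperty.of_isPullback (P := @IsOpenImmersion) (isPullback_stageHom j₀ fO t) inferInstance
  haveI : ∀ t, QuasiCompact (α.app t) := fun t =>
    MorphismProperty.of_isPullback (P := @QuasiCompact) (isPullback_stageHom j₀ fO t) inferInstance
  haveI : ∀ t, QuasiSeparated (α.app t) := fun t => inferInstance
  -- the system
  let β : DX ⟶ constD (Over i) (O : Scheme.{u}) := sndNat fO
  let C := EtCoh.const (O : Scheme.{u}) (ZMod ℓ)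
  let L := pullCocn β (c := constC (Over i) (O : Scheme.{u})) (e := cX) qO
    (fun t => (Category.comp_id _).trans (toStage_snd (c := c) hY t).symm) (constCocn (Over i) C)
  haveI : IsIso (toLim L) :=
    haveI := isIso_toLim_constCocn (Over i) C
    isIso_toLim_pullCocn β (c := constC (Over i) (O : Scheme.{u})) (e := cX) qO _ (constCocn (Over i) C)
  have hp : ∀ t, cU.π.app t ≫ α.app t = V.ι ≫ cX.π.app t := fun t => toStage_stageHom (c := c) hY hX t
  -- the stages
  have hℓO : IsUnit (ℓ : Γ((O : Scheme.{u}), ⊤)) := by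
    refine (O : Scheme.{u}).toRingedSpace.isUnit_of_isUnit_germ ⊤ _ fun z _ => ?_
    have hz : z ∈ O.ι ⁻¹ᵁ X₁.basicOpen (ℓ : Γ(X₁, ⊤)) := z.2.2
    rw [Scheme.preimage_basicOpen_top, map_natCast, Scheme.mem_basicOpen_top] at hz
    exact hz
  have hstage : ∀ t : Over i, IsIso ((EtCoh.pullPushAdj (α.app t)).unit.app ((EtCoh.pull (β.app t)).obj C)) ∧
      ∀ p, 0 < p → p ≤ m →
        IsZero ((EtCoh.Rpush (α.app t) p).obj ((EtCoh.pull (α.app t)).obj ((EtCoh.pull (β.app t)).obj C))) := fun t => by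
    let ft : DX.obj t ⟶ D.obj t.left := pullback.fst (D.map t.hom) fO
    haveI : Smooth ft := MorphismProperty.pullback_fst (P := @Smooth) _ _ (inferInstanceAs (Smooth (O.ι ≫ f₁)))
    haveI := hnoeth t.left
    haveI : IsLocallyNoetherian (DX.obj t) := LocallyOfFiniteType.isLocallyNoetherian ft
    let w : DX.obj t ⟶ (O : Scheme.{u}) := pullback.snd (D.map t.hom) fO
    have hsqt : IsPullback w ft fO (D.map t.hom) := (IsPullback.of_hasPullback (D.map t.hom) fO).flip
    haveI : EtCoh.BCCont (α.app t) := inferInstance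
    have hℓt : IsUnit (ℓ : Γ(DX.obj t, ⊤)) := isUnit_natCast_of_hom w hℓO
    have hdepth : EtDepth.DepthGE (α.app t) (EtCoh.const (DX.obj t) (ZMod ℓ)) (2 * (N - d)) := by
      refine depthGE_noeth ft (α.app t) ℓ hℓ hℓt (N - d) fun z hz => ?_
      have hzW : w z ∉ O.ι ⁻¹ᵁ W := fun h => hz (by
        show z ∈ Set.range (stageHom j₀ fO t)
        refine (Set.ext_iff.1 (range_eq_preimage (isPullback_stageHom j₀ fO t).flip) z).2 ?_
        show w z ∈ Set.range j₀
        rw [Scheme.Opens.range_ι]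
        exact h)
      have hzE : DimLE f₁ (W : Set X₁)ᶜ d (w z).1 := (w z).2.1.1.resolve_left (not_not.2 hzW)
      refine le_dim_stalk_fiber ft (w ⁻¹' (O.ι ⁻¹' (W : Set X₁)ᶜ))
        ((W.2.isClosed_compl.preimage O.ι.continuous).preimage w.continuous) z ?_ hzW
        ((dimLE_of_isPullback fO hsqt _ (W.2.isClosed_compl.preimage O.ι.continuous) d z hzW).2
          (DimLE.restrict f₁ O (w z) hzE))
      rw [Groth.L23.fibreDimAt_of_isPullback hsqt z, Groth.L24.Kleiman.fibreDimAt_openImmersion_comp]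
      exact (w z).2.1.2
    rw [hm, Groth.Agent.S3364.depth_iff] at hdepth
    haveI := hdepth.1
    refine ⟨isIso_unit_of_iso (α.app t) (EtCore.pullConst (β.app t) (ZMod ℓ)).symm, fun p h1 h2 => ?_⟩
    exact (hdepth.2 p h1 h2).of_iso ((EtCoh.Rpush (α.app t) p).mapIso
      ((EtCoh.pull (α.app t)).mapIso (EtCore.pullConst (β.app t) (ZMod ℓ))))
  let p₀ : cU.pt ⟶ cX.pt := V.ι
  haveI : QuasiCompact V.ι := ⟨fun W' hW' hW'' => (V.ι.isOpenEmbedding.isInducing.isCompact_iff).2 (by
    rw [Set.image_preimage_eq_inter_range, Scheme.Opens.range_ι]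
    exact QuasiSeparatedSpace.inter_isCompact _ _ hW' hW'' V.2 hV)⟩
  haveI : QuasiCompact p₀ := ‹QuasiCompact V.ι›
  haveI : QuasiSeparated p₀ := inferInstanceAs (QuasiSeparated V.ι)
  let e : L.M ≅ EtCoh.const X (ZMod ℓ) := EtCore.pullConst qO (ZMod ℓ)
  refine ⟨?_, fun p h1 h2 => ?_⟩
  · haveI hu : IsIso ((EtCoh.pullPushAdj p₀).unit.app L.M) :=
      isIso_unit (c := cU) (c' := cX) α p₀ hp hlU hlX L (fun t => (hstage t).1)
    exact @isIso_unit_of_iso _ _ V.ι _ _ e hu
  · exact (isZero_rpush (c := cU) (c' := cX) α p₀ hp hlU hlX L p (fun t => (hstage t).2 p h1 h2)).of_iso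
      ((EtCoh.Rpush V.ι p).mapIso ((EtCoh.pull V.ι).mapIso e.symm))

end Groth.L28.Pair.Limit
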