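import Groth.Agent.L28.Pair.Limit.Approx
import Groth.Agent.L28.Supp.LocConst
import Groth.Agent.S5176
import Groth.Agent.S2768
import Groth.Agent.L07.SyntDim

/-!
Relative semipurity for smooth morphisms over an arbitrary base.
-/

set_option autoImplicit false
set_option linter.style.haveILetI false
set_option linter.unusedSectionVars false
set_option backward.isDefEq.respectTransparency.types false

universe u

open CategoryTheory CategoryTheory.Limits AlgebraicGeometry Opposite TopologicalSpace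

noncomputable section

namespace Groth.L28.Pair.Limit

variable {S X Y U : Scheme.{u}} (N d : ℕ) (g : X ⟶ S) [SmoothOfRelativeDimension N g] [QuasiCompact g]
    (i : Y ⟶ X) [IsClosedImmersion i]
    (hfib : ∀ s : S, topologicalKrullDim ↥(pullback (i ≫ g) (S.fromSpecResidueField s)) ≤ d)
    (j : U ⟶ X) [IsOpenImmersion j] (hU : Set.range j = (Set.range i)ᶜ) [EtCoh.BCCont j]

include hfib hU in
/-- Relative semipurity for prime coefficients. -/
theorem depthGE_prime (ℓ : ℕ) (hℓ : ℓ.Prime) (hn : IsUnit (ℓ : Γ(S, ⊤))) :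
    EtDepth.DepthGE j (EtCoh.const X (ZMod ℓ)) (2 * (N - d)) := by
  haveI : Smooth g := SmoothOfRelativeDimension.smooth N g
  intro p hp
  refine Supp.isZero_of_restr fun x => ?_
  obtain ⟨T, hT, hxT, -⟩ := exists_isAffineOpen_mem_and_subset (U := (⊤ : S.Opens)) (x := g x) trivial
  obtain ⟨W, hW, hxW, hWT⟩ := exists_isAffineOpen_mem_and_subset (U := g ⁻¹ᵁ T) (x := x) hxT
  haveI : IsAffine (W : Scheme.{u}) := hW
  have hWT' : W ≤ g ⁻¹ᵁ T := hWT
  let f : (W : Scheme.{u}) ⟶ Spec Γ(S, T) := g.resLE T W hWT' ≫ hT.isoSpec.hom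
  haveI : Smooth f := inferInstanceAs (Smooth (g.resLE T W hWT' ≫ hT.isoSpec.hom))
  have hf : W.ι ≫ g = f ≫ hT.fromSpec := by
    show _ = (g.resLE T W hWT' ≫ hT.isoSpec.hom) ≫ hT.fromSpec
    rw [Category.assoc, ← IsAffineOpen.isoSpec_inv_ι, Iso.hom_inv_id_assoc, Scheme.Hom.resLE_comp_ι]
  have hN : ∀ w, FlatMor.fibreDimAt f w = (N : WithBot ℕ∞) := fun w =>
    (Groth.L07.SyntDim.fibreDimAt_congr g f W.ι hT.fromSpec hf w).symm.trans (Groth.Agent.S2768.result N g _)
  have hdim : ∀ s, topologicalKrullDim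
      ((W.ι ⁻¹' Set.range i) ∩ f ⁻¹' {s} : Set (W : Scheme.{u})) ≤ (d : WithBot ℕ∞) := fun s => by
    let E : Set (W : Scheme.{u}) := (W.ι ⁻¹' Set.range i) ∩ f ⁻¹' {s}
    have hmem : ∀ z : E, ∃ y, i y = W.ι z.1 := fun z => z.2.1
    choose y hy using hmem
    have hg : ∀ z : E, y z ∈ (i ≫ g) ⁻¹' {hT.fromSpec s} := fun z => by
      show (i ≫ g) (y z) = _
      rw [Scheme.Hom.comp_apply, hy, ← Scheme.Hom.comp_apply, hf, Scheme.Hom.comp_apply]
      exact congrArg _ z.2.2
    have hy' : Continuous y := by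
      rw [i.isClosedEmbedding.isInducing.continuous_iff, show i ∘ y = fun z : E => W.ι z.1 from funext hy]
      exact W.ι.continuous.comp continuous_subtype_val
    have hind : Topology.IsInducing fun z : E => (⟨y z, hg z⟩ : ((i ≫ g) ⁻¹' {hT.fromSpec s} : Set Y)) := by
      refine Topology.IsInducing.of_comp (hy'.subtype_mk hg) (i.continuous.comp continuous_subtype_val) ?_
      rw [show (i ∘ Subtype.val) ∘ (fun z : E => (⟨y z, hg z⟩ : ((i ≫ g) ⁻¹' {hT.fromSpec s} : Set Y))) =
        W.ι ∘ Subtype.val from funext hy]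
      exact W.ι.isOpenEmbedding.isInducing.comp Topology.IsInducing.subtypeVal
    refine (hind.topologicalKrullDim_le).trans ?_
    refine ((IsHomeomorph.topologicalKrullDim_eq _
      ((i ≫ g).fiberHomeo (hT.fromSpec s)).isHomeomorph).symm.le).trans ?_
    exact hfib (hT.fromSpec s)
  haveI : QuasiCompact f := inferInstance
  obtain ⟨V, hVY, hV, hVdim⟩ := exists_qc_open f (W.ι ⁻¹' Set.range i)
    (i.isClosedEmbedding.isClosed_range.preimage W.ι.continuous) d hdim
  have hnW : IsUnit (ℓ : Γ((W : Scheme.{u}), ⊤)) := isUnit_natCast_of_hom (W.ι ≫ g) hn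
  haveI : EtCoh.BCCont V.ι := inferInstance
  haveI : EtCoh.BCCont (pullback.snd j W.ι) := inferInstance
  have h1 := depthGE_affine f N d hN V hV hVdim ℓ hℓ hnW
  have h2 : EtDepth.DepthGE (pullback.snd j W.ι) (EtCoh.const (W : Scheme.{u}) (ZMod ℓ)) (2 * (N - d)) := by
    refine Groth.Agent.S5176.result V.ι (pullback.snd j W.ι) ?_ _ _ h1
    intro z hz
    rw [Scheme.Opens.range_ι] at hz
    rw [Scheme.Pullback.range_snd, hU]
    exact hVY hz
  haveI : EtShriek.JCont W.ι := L27.ExtZero.jCont W.ι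
  obtain ⟨e⟩ := Supp.nonempty_restr_locCoh_iso j W.ι p (EtCoh.const X (ZMod ℓ))
  exact ⟨W, W.ι, inferInstance, inferInstance, ⟨⟨x, hxW⟩, rfl⟩,
    (h2 p hp).of_iso (e ≪≫ (EtDual.locCoh _ p).mapIso (Supp.restrConst W.ι (ZMod ℓ)))⟩

include hfib hU in
/-- Relative semipurity for finite constant coefficients killed by an invertible integer. -/
theorem isZero_locCoh_finite (n : ℕ) (hn : IsUnit (n : Γ(S, ⊤))) (p : ℕ) (hp : p < 2 * (N - d)) (c : ℕ) :
    ∀ (M : Type) [AddCommGroup M] [Finite M], Nat.card M ≤ c → (∀ m : M, n • m = 0) →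
      IsZero ((EtDual.locCoh j p).obj (EtCoh.const X M)) := by
  letI := HasDerivedCategory.standard.{max (u + 1) (u + 1)} (EtCoh.Ab X)
  haveI := Groth.L27.ExtZero.jCont j
  haveI := Groth.L00.RDerLES.additive (EtDual.secSupp j) p
  haveI : (EtDual.locCoh j p).Additive := inferInstanceAs ((EtDual.secSupp j).rightDerived p).Additive
  let Φ := (constantSheaf X.smallEtaleTopology AddCommGrpCat.{u + 1})
  haveI : PreservesFiniteLimits Φ := inferInstanceAs (PreservesFiniteLimits
    (Functor.const X.Etaleᵒᵖ ⋙ presheafToSheaf X.smallEtaleTopology AddCommGrpCat.{u + 1}))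
  haveI : PreservesColimitsOfSize.{0, 0} Φ := (EtCore.constAdj X).leftAdjoint_preservesColimits
  haveI : PreservesFiniteColimits Φ := PreservesColimitsOfSize.preservesFiniteColimits _
  haveI : Φ.Additive := Functor.additive_of_preserves_binary_products _
  induction c with
  | zero =>
    intro M _ _ hM _
    exact absurd hM (Nat.not_le.2 Nat.card_pos)
  | succ c ih =>
    intro M _ _ hM ht
    rcases subsingleton_or_nontrivial M with hs | hs
    · haveI : Subsingleton ↑(AddCommGrpCat.of (ULift.{u + 1} M)) := inferInstanceAs (Subsingleton (ULift.{u + 1} M))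
      exact (EtDual.locCoh j p).map_isZero (Φ.map_isZero (AddCommGrpCat.isZero_of_subsingleton _))
    obtain ⟨ℓ, hℓ, hℓM⟩ := Nat.exists_prime_and_dvd (Finite.one_lt_card (α := M)).ne'
    haveI : Fact ℓ.Prime := ⟨hℓ⟩
    obtain ⟨a, haℓ⟩ := exists_prime_addOrderOf_dvd_card' ℓ hℓM
    have ha : a ≠ 0 := fun h => hℓ.ne_one (by rw [← haℓ, h, addOrderOf_zero])
    have ha' : ℓ • a = 0 := by rw [← haℓ]; exact addOrderOf_nsmul_eq_zero a
    have hℓn : IsUnit (ℓ : Γ(S, ⊤)) := by
      obtain ⟨k, hk⟩ : ℓ ∣ n := haℓ ▸ addOrderOf_dvd_of_nsmul_eq_zero (ht a)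
      rw [hk, Nat.cast_mul] at hn
      exact (IsUnit.mul_iff.1 hn).1
    let i₀ : ZMod ℓ →+ M := ZMod.lift ℓ ⟨zmultiplesHom M a, by rw [zmultiplesHom_apply, natCast_zsmul, ha']⟩
    have hi₀ : Function.Injective i₀ := by
      refine (injective_iff_map_eq_zero _).2 fun x hx => by_contra fun hne => ha ?_
      have e : ∀ y : ZMod ℓ, i₀ y = y.val • a := fun y => by
        conv_lhs => rw [← ZMod.natCast_zmod_val y]
        rw [show ((y.val : ℕ) : ZMod ℓ) = ((y.val : ℤ) : ZMod ℓ) from (Int.cast_natCast _).symm]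
        exact (ZMod.lift_coe ℓ _ _).trans (natCast_zsmul a _)
      have h1 : i₀ 1 = a := by rw [e, ZMod.val_one, one_nsmul]
      have h2 : i₀ 1 = 0 := by
        rw [show (1 : ZMod ℓ) = (x⁻¹).val • x by rw [nsmul_eq_mul, ZMod.natCast_zmod_val, inv_mul_cancel₀ hne],
          map_nsmul, hx, nsmul_zero]
      exact h1.symm.trans h2
    let Q := M ⧸ i₀.range
    have hQ : Nat.card Q ≤ c := by
      have h1 := i₀.range.card_eq_card_quotient_mul_card_addSubgroup
      have h2 : 1 < Nat.card i₀.range := by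
        rw [← Nat.card_congr (AddMonoidHom.ofInjective hi₀).toEquiv, Nat.card_zmod]
        exact hℓ.one_lt
      have h3 : 0 < Nat.card Q := Nat.card_pos
      show Nat.card (M ⧸ i₀.range) ≤ c
      nlinarith
    let T : ShortComplex AddCommGrpCat.{u + 1} := ShortComplex.mk
      (AddCommGrpCat.ofHom ((AddEquiv.ulift.symm.toAddMonoidHom).comp (i₀.comp AddEquiv.ulift.toAddMonoidHom) :
        ULift.{u + 1} (ZMod ℓ) →+ ULift.{u + 1} M))
      (AddCommGrpCat.ofHom ((AddEquiv.ulift.symm.toAddMonoidHom).comp ((QuotientAddGroup.mk' i₀.range).comp AddEquiv.ulift.toAddMonoidHom) :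
        ULift.{u + 1} M →+ ULift.{u + 1} Q))
      (ConcreteCategory.hom_ext _ _ fun x => ULift.ext _ _ ((QuotientAddGroup.eq_zero_iff _).2 (AddMonoidHom.mem_range.2 ⟨x.down, rfl⟩)))
    have hS : T.ShortExact :=
      { exact := (ShortComplex.ab_exact_iff T).2 fun x hx => by
          obtain ⟨y, hy⟩ := (QuotientAddGroup.eq_zero_iff x.down).1 (congrArg ULift.down hx)
          exact ⟨ULift.up y, ULift.ext _ _ hy⟩
        mono_f := (AddCommGrpCat.mono_iff_injective _).2 fun x y e => ULift.ext _ _ (hi₀ (congrArg ULift.down e))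
        epi_g := (AddCommGrpCat.epi_iff_surjective _).2 fun y => by
          obtain ⟨x, hx⟩ := QuotientAddGroup.mk'_surjective i₀.range y.down
          exact ⟨ULift.up x, ULift.ext _ _ hx⟩ }
    have hq : ∀ q : Q, n • q = 0 := fun q => by
      obtain ⟨x, rfl⟩ := QuotientAddGroup.mk'_surjective i₀.range q
      rw [← map_nsmul, ht x, map_zero]
    exact ShortComplex.Exact.isZero_of_both_zeros (Groth.L00.RDerLES.exact₂ (EtDual.secSupp j) (hS.map_of_exact Φ) p)
      ((depthGE_prime N d g i hfib j hU ℓ hℓ hℓn p hp).eq_of_src _ _) ((ih Q hQ hq).eq_of_tgt _ _)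

include hfib hU in
/-- Relative semipurity. -/
theorem isZero_locCoh (n : ℕ) (hn : IsUnit (n : Γ(S, ⊤))) (p : ℕ) (hp : p < 2 * (N - d)) :
    IsZero ((EtDual.locCoh j p).obj (EtCoh.const X (ZMod n))) := by
  rcases Nat.eq_zero_or_pos n with rfl | hpos
  · refine Supp.isZero_of_restr fun x => ?_
    have h := (hn.map (S.evaluation ⊤ (g x) trivial).hom).ne_zero
    rw [map_natCast, Nat.cast_zero] at h
    exact absurd rfl h
  · haveI : NeZero n := ⟨hpos.ne'⟩
    exact isZero_locCoh_finite N d g i hfib j hU n hn p hp _ (ZMod n) le_rfl fun m => by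
      rw [nsmul_eq_mul, ZMod.natCast_self, zero_mul]

end Groth.L28.Pair.Limit
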