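import Groth.Agent.L27.LimBC.BCSys
import Groth.Agent.L27.LimBC.PushLim
import Groth.Agent.L27.EtSite.Pull

/-!
Units and higher direct images along limits of morphisms.
-/

universe u

open CategoryTheory CategoryTheory.Limits AlgebraicGeometry Opposite

set_option autoImplicit false
set_option backward.isDefEq.respectTransparency.types false
set_option linter.style.haveILetI false
set_option linter.unusedSectionVars false

noncomputable section

namespace Groth.L28.Pair.Limit

open Groth.L27.LimCoh Groth.L27.LimBC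

theorem un_pushSq {X₀ X₁ Y₀ Y₁ : Scheme.{u}} (b₀ : Y₀ ⟶ X₀) (b₁ : Y₁ ⟶ X₁) (v : Y₁ ⟶ Y₀) (u : X₁ ⟶ X₀)
    (w : b₁ ≫ u = v ≫ b₀) {A : EtCoh.Ab X₀} {B : EtCoh.Ab X₁} (a : A ⟶ (EtCoh.push u).obj B) :
    un b₀ A ≫ pushSq b₀ u b₁ v w.symm (pullHat b₀ b₁ v u w a) = a ≫ (EtCoh.push u).map (un b₁ B) := by
  have h := congrArg (· ≫ pushSplit b₁ u w _) (cmp_pullHat b₀ b₁ v u w a (k := v ≫ b₀) rfl w)
  simp only [Groth.L27.LimBC.cmp, Category.assoc] at h
  simp only [pushJoin_pushSplit, Category.comp_id] at h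
  simpa only [pushSq, Category.assoc] using h

variable {I : Type u} [SmallCategory I] {D D' : I ⥤ Scheme.{u}} (α : D ⟶ D') {c : Cone D} {c' : Cone D'}
  (p : c.pt ⟶ c'.pt) (hp : ∀ i, c.π.app i ≫ α.app i = p ≫ c'.π.app i) {S : Sys D'}

/-- The units as a morphism of systems. -/
def unitHom (S : Sys D') : Sys.Hom S (pushNat α (pullNat α S)) where
  app i := un (α.app i) (S.F i)
  comm {i j} g := un_pushSq (α.app i) (α.app j) (D.map g) (D'.map g) (nat_w α g) (S.ψ g)

theorem unitHom_leg (L : Cocn S c') (i : I) :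
    L.a i ≫ (EtCoh.push (prj c' i)).map (un p L.M) =
      (unitHom α S).app i ≫ (pushNatCocn α p hp (pullCocn α p (fun i => (hp i).symm) L)).a i :=
  (un_pushSq (α.app i) p (prj c i) (prj c' i) (hp i).symm (L.a i)).symm

variable [IsCofiltered I] [∀ i, QuasiCompact (α.app i)] [∀ i, QuasiSeparated (α.app i)]
  [∀ (j k : I) (m : j ⟶ k), IsAffineHom (D.map m)] [∀ (j k : I) (m : j ⟶ k), IsAffineHom (D'.map m)]
  [∀ i, CompactSpace (D.obj i)] [∀ i, QuasiSeparatedSpace (D.obj i)]
  [∀ i, CompactSpace (D'.obj i)] [∀ i, QuasiSeparatedSpace (D'.obj i)]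

include hp in
/-- An invertible unit at all stages gives an invertible unit on the limit. -/
theorem isIso_unit (hc : IsLimit c) (hc' : IsLimit c') (L : Cocn S c') [IsIso (toLim L)]
    (h : ∀ i, IsIso ((EtCoh.pullPushAdj (α.app i)).unit.app (S.F i))) :
    IsIso ((EtCoh.pullPushAdj p).unit.app L.M) := by
  let L₁ := pullCocn α p (fun i => (hp i).symm) L
  let L₂ := pushNatCocn α p hp L₁
  haveI := isIso_toLim_pullCocn α p (fun i => (hp i).symm) L
  haveI : IsIso (toLim L₂) := isIso_toLim hc' L₂ (isLim_pushNatCocn α p hp L₁ (isLim_of_isIso_toLim hc L₁))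
  haveI : ∀ i, IsIso ((diagMap (c := c') (unitHom α S)).app i) := fun i =>
    haveI : IsIso ((unitHom α S).app i.unop) := h i.unop
    inferInstanceAs (IsIso ((EtCoh.pull (prj c' i.unop)).map ((unitHom α S).app i.unop)))
  haveI : IsIso (diagMap (c := c') (unitHom α S)) := NatIso.isIso_of_isIso_app _
  haveI : IsIso (canonMap c' (unitHom α S)) := by
    unfold canonMap
    infer_instance
  have key : toLim L ≫ un p L.M = canonMap c' (unitHom α S) ≫ toLim L₂ := by
    refine colimit.hom_ext fun i => ?_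
    obtain ⟨i⟩ := i
    refine (Category.assoc _ _ _).symm.trans ((congrArg (· ≫ _) (colimit.ι_desc L.cocone (op i))).trans ?_)
    refine Eq.trans ?_ ((congrArg (· ≫ toLim L₂) (ι_canonMap c' (unitHom α S) i)).symm.trans
      (Category.assoc _ _ _))
    refine Eq.trans ?_ ((congrArg (_ ≫ ·) (colimit.ι_desc L₂.cocone (op i))).symm.trans
      (Category.assoc _ _ _).symm)
    refine ((EtCoh.pullPushAdj (prj c' i)).homEquiv_naturality_right_symm _ _).symm.trans ?_
    exact (congrArg _ (unitHom_leg α p hp L i)).trans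
      ((EtCoh.pullPushAdj (prj c' i)).homEquiv_naturality_left_symm _ _)
  haveI : IsIso (toLim L ≫ un p L.M) := by
    rw [key]
    exact IsIso.comp_isIso' (f := canonMap c' (unitHom α S)) inferInstance (show IsIso (toLim L₂) by infer_instance)
  exact IsIso.of_isIso_comp_left (toLim L) _

include hp in
/-- Vanishing higher direct images at all stages give vanishing on the limit. -/
theorem isZero_rpush [QuasiCompact p] [QuasiSeparated p] (hc : IsLimit c) (hc' : IsLimit c') (L : Cocn S c')
    [IsIso (toLim L)] (q : ℕ)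
    (h : ∀ i, IsZero ((EtCoh.Rpush (α.app i) q).obj ((EtCoh.pull (α.app i)).obj (S.F i)))) :
    IsZero ((EtCoh.Rpush p q).obj ((EtCoh.pull p).obj L.M)) := by
  let L₁ := pullCocn α p (fun i => (hp i).symm) L
  haveI := isIso_toLim_pullCocn α p (fun i => (hp i).symm) L
  haveI := isIso_toLim_rCocn α q p hp hc hc' L₁ (isLim_of_isIso_toLim hc L₁)
  haveI : ∀ i, (EtCoh.pull (prj c' i)).Additive := fun i => (EtCoh.pullPushAdj _).left_adjoint_additive
  refine IsZero.of_iso ?_ (asIso (toLim (rCocn α q p hp L₁))).symm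
  refine (IsZero.iff_id_eq_zero _).2 (colimit.hom_ext fun i => ?_)
  exact ((EtCoh.pull (prj c' i.unop)).map_isZero (h i.unop)).eq_of_src _ _

end Groth.L28.Pair.Limit
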